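import Groth.Agent.Sga7.H516.Neutral
import Groth.Agent.Sga7.H260.Cover
import Groth.Agent.Sga3C.LocConn

/-!
# The components of the fibres of a smooth group scheme through sections

`N` a smooth group scheme over `S`, `b` a section.  `MoreMor.sectionComponents N.hom b` is the union
of the connected components of the points of `b` in the fibres.

* `map_mem`: morphisms over a morphism of the base respect these sets.
* `preimage_tr`, `isOpen`: the translation by `b` maps `N⁰` to it; it is open.
* `exists_section_mem`: over a strictly henselian base every point of the special fibre belongs to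
  one of them.
* `exists_finite`: over a strictly henselian discrete valuation ring, if the generic fibre is
  connected, `N` is covered by finitely many of them.
-/

set_option autoImplicit false
set_option linter.unusedSectionVars false
universe u

open CategoryTheory MonoidalCategory CartesianMonoidalCategory MonObj GrpObj AlgebraicGeometry Limits

namespace Groth.Agent.Sga7.H755.FN.Comp

open Groth.Agent.Sga3.H778.NeutralPts Groth.Agent.Sga3.H778.NeutralOpen
open Groth.Agent.Sga7.H260.Cover (tr trIso comp_tr tr_comp_tr tr_one)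

section Map

variable {S X : Scheme.{u}}

theorem mem_iff (x : X ⟶ S) (s : S ⟶ X) (z : X) : z ∈ MoreMor.sectionComponents x s ↔
    z ∈ connectedComponentIn (x ⁻¹' {x z}) (s (x z)) := Iff.rfl

theorem map_mem (x : X ⟶ S) (s s' : S ⟶ X) (hs : s ≫ x = 𝟙 S) (σ : S ⟶ S) (φ : X ⟶ X)
    (h1 : φ ≫ x = x ≫ σ) (h2 : s ≫ φ = σ ≫ s') (z : X) (hz : z ∈ MoreMor.sectionComponents x s) :
    φ z ∈ MoreMor.sectionComponents x s' := by
  rw [mem_iff] at hz ⊢
  have h3 : x (φ z) = σ (x z) := by
    rw [← Scheme.Hom.comp_apply, h1, Scheme.Hom.comp_apply]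
  have h4 : s' (x (φ z)) = φ (s (x z)) := by
    rw [h3, ← Scheme.Hom.comp_apply, ← h2, Scheme.Hom.comp_apply]
  rw [h4, h3]
  have h5 : Set.MapsTo φ (x ⁻¹' {x z}) (x ⁻¹' {σ (x z)}) := by
    intro y hy
    have hy' : x y = x z := hy
    change x (φ y) = _
    rw [← Scheme.Hom.comp_apply, h1, Scheme.Hom.comp_apply, hy']
  have h6 : _root_.IsPreconnected (φ '' connectedComponentIn (x ⁻¹' {x z}) (s (x z))) :=
    isPreconnected_connectedComponentIn.image _ φ.continuous.continuousOn
  have h7 : s (x z) ∈ x ⁻¹' {x z} := by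
    change x (s (x z)) = x z
    rw [← Scheme.Hom.comp_apply, hs]
    rfl
  refine h6.subset_connectedComponentIn ⟨_, mem_connectedComponentIn h7, rfl⟩ ?_ ⟨z, hz, rfl⟩
  rintro _ ⟨y, hy, rfl⟩
  exact h5 (connectedComponentIn_subset _ _ hy)

theorem mem_of_isPreconnected (x : X ⟶ S) (s : S ⟶ X) (hs : s ≫ x = 𝟙 S) (z : X)
    (h : _root_.IsPreconnected (x ⁻¹' {x z})) : z ∈ MoreMor.sectionComponents x s := by
  rw [mem_iff]
  refine h.subset_connectedComponentIn ?_ subset_rfl rfl
  change x (s (x z)) = x z
  rw [← Scheme.Hom.comp_apply, hs]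
  rfl

end Map

section Grp

variable {S : Scheme.{u}} (N : Over S) [GrpObj N] (b : 𝟙_ (Over S) ⟶ N)

theorem sec_hom : b.left ≫ N.hom = 𝟙 S := Over.w b

theorem unitSec_tr : unitSec N ≫ (tr b).left = b.left := by
  have h1 : η[N] ≫ tr b = b := by
    rw [comp_tr, toUnit_unique (toUnit (𝟙_ (Over S))) (𝟙 _), Category.id_comp, one_eq_one,
      _root_.mul_one]
  exact congrArg (fun t => t.left) h1

theorem sec_tr_inv : b.left ≫ (tr b⁻¹).left = unitSec N := by
  have h1 : b ≫ tr b⁻¹ = η[N] := by
    rw [comp_tr, toUnit_unique (toUnit (𝟙_ (Over S))) (𝟙 _), Category.id_comp, inv_mul_cancel,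
      one_eq_one]
  exact congrArg (fun t => t.left) h1

theorem tr_hom : (tr b).left ≫ N.hom = N.hom := Over.w (tr b)

/-- Translation by `b` maps `N⁰` onto the component of `b`. -/
theorem tr_mem_iff (z : N.left) : (tr b).left z ∈ MoreMor.sectionComponents N.hom b.left ↔
    z ∈ SGA3x.neutralSet N := by
  rw [neutralSet_eq]
  constructor
  · intro h
    have h1 := map_mem N.hom b.left (unitSec N) (sec_hom N b) (𝟙 S) (tr b⁻¹).left
      (by rw [tr_hom, Category.comp_id]) (by rw [sec_tr_inv, Category.id_comp]) _ h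
    have h2 : (tr b ≫ tr b⁻¹) = 𝟙 N := (trIso b).hom_inv_id
    have h3 : (tr b).left ≫ (tr b⁻¹).left = 𝟙 _ := congrArg (fun t => t.left) h2
    rw [← Scheme.Hom.comp_apply, h3] at h1
    exact h1
  · intro h
    exact map_mem N.hom (unitSec N) b.left (unitSec_hom N) (𝟙 S) (tr b).left
      (by rw [tr_hom, Category.comp_id]) (by rw [unitSec_tr, Category.id_comp]) _ h

instance isIso_tr : IsIso (tr b).left :=
  inferInstanceAs (IsIso ((Over.forget S).map (trIso b).hom))

theorem tr_image : (tr b).left '' SGA3x.neutralSet N = MoreMor.sectionComponents N.hom b.left := by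
  ext z
  constructor
  · rintro ⟨y, hy, rfl⟩
    exact (tr_mem_iff N b y).2 hy
  · intro hz
    obtain ⟨y, rfl⟩ := (tr b).left.surjective z
    exact ⟨y, (tr_mem_iff N b y).1 hz, rfl⟩

theorem isOpen [Smooth N.hom] : IsOpen (MoreMor.sectionComponents N.hom b.left) := by
  rw [← tr_image]
  have hsm : Smooth ((⊤ : N.left.Opens).ι ≫ N.hom) := inferInstance
  exact (tr b).left.isOpenEmbedding.isOpenMap _ (isOpen_neutralSet N ⊤ (fun _ => trivial))

end Grp

section Cover

variable {R : Type u} [CommRing R] [IsLocalRing R]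

/-- The connected component of a point of the special fibre is open in the special fibre. -/
theorem exists_open (N : Over (Spec (CommRingCat.of R))) [LocallyOfFiniteType N.hom] (y : N.left) :
    ∃ O : Set N.left, IsOpen O ∧ O ∩ (N.hom ⁻¹' {N.hom y}) =
      connectedComponentIn (N.hom ⁻¹' {N.hom y}) y := by
  let F := N.hom.fiber (N.hom y)
  have hF : Topology.IsInducing (N.hom.fiberι (N.hom y)) :=
    (N.hom.fiberι (N.hom y)).isEmbedding.isInducing
  have hr : Set.range (N.hom.fiberι (N.hom y)) = N.hom ⁻¹' {N.hom y} := N.hom.range_fiberι _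
  have hn : IsLocallyNoetherian F := by
    have h1 : LocallyOfFiniteType (N.hom.fiberToSpecResidueField (N.hom y)) :=
      MorphismProperty.pullback_snd (P := @LocallyOfFiniteType) _ _ inferInstance
    exact LocallyOfFiniteType.isLocallyNoetherian (N.hom.fiberToSpecResidueField (N.hom y))
  have hlc : LocallyConnectedSpace F :=
    Groth.Agent.Sga3C.LocConn.locallyConnectedSpace_of_isLocallyNoetherian F
  obtain ⟨y', hy'⟩ : ∃ y' : F, N.hom.fiberι (N.hom y) y' = y := by
    have : y ∈ Set.range (N.hom.fiberι (N.hom y)) := by rw [hr]; rfl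
    exact this
  have ho : IsOpen (connectedComponent y') := isOpen_connectedComponent
  obtain ⟨O, hO, hOe⟩ := hF.isOpen_iff.mp ho
  refine ⟨O, hO, ?_⟩
  have h1 : N.hom.fiberι (N.hom y) '' connectedComponent y' = O ∩ (N.hom ⁻¹' {N.hom y}) := by
    rw [← hOe, Set.image_preimage_eq_inter_range, hr]
  rw [← h1]
  apply Set.Subset.antisymm
  · refine (isPreconnected_connectedComponent.image _
      (N.hom.fiberι (N.hom y)).continuous.continuousOn).subset_connectedComponentIn
      ⟨y', mem_connectedComponent, hy'⟩ ?_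
    rw [← hr]
    exact Set.image_subset_range _ _
  · have h2 : _root_.IsPreconnected (N.hom.fiberι (N.hom y) ⁻¹'
        (connectedComponentIn (N.hom ⁻¹' {N.hom y}) y)) := by
      rw [← hF.isPreconnected_image, Set.image_preimage_eq_of_subset]
      · exact isPreconnected_connectedComponentIn
      · rw [hr]
        exact connectedComponentIn_subset _ _
    have h3 : N.hom.fiberι (N.hom y) ⁻¹' (connectedComponentIn (N.hom ⁻¹' {N.hom y}) y) ⊆
        connectedComponent y' := by
      refine h2.subset_connectedComponent ?_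
      rw [Set.mem_preimage, hy']
      exact mem_connectedComponentIn rfl
    intro z hz
    have h4 : z ∈ N.hom ⁻¹' {N.hom y} := connectedComponentIn_subset _ _ hz
    rw [← hr] at h4
    obtain ⟨z', rfl⟩ := h4
    exact ⟨z', h3 hz, rfl⟩

/-- Every point of the special fibre lies in the component of a section. -/
theorem exists_section_mem (hR : EtCoh.IsStrictlyHenselianLocalRing R)
    (N : Over (Spec (CommRingCat.of R))) [Smooth N.hom] (y : N.left)
    (hy : N.hom y = IsLocalRing.closedPoint R) :
    ∃ b : 𝟙_ (Over (Spec (CommRingCat.of R))) ⟶ N,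
      y ∈ MoreMor.sectionComponents N.hom b.left := by
  obtain ⟨O, hO, hOe⟩ := exists_open N y
  have hyO : y ∈ O := by
    have : y ∈ O ∩ (N.hom ⁻¹' {N.hom y}) := by
      rw [hOe]
      exact mem_connectedComponentIn rfl
    exact this.1
  obtain ⟨a, ha, haO⟩ := Dix.NeronEllPts.exists_section hR N.hom y hy O hO hyO
  refine ⟨Over.homMk a ha, ?_⟩
  change y ∈ connectedComponentIn (N.hom ⁻¹' {N.hom y}) (a (N.hom y))
  have h1 : a (N.hom y) ∈ connectedComponentIn (N.hom ⁻¹' {N.hom y}) y := by
    rw [← hOe]
    refine ⟨by rw [hy]; exact haO, ?_⟩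
    change N.hom (a (N.hom y)) = _
    rw [← Scheme.Hom.comp_apply, ha]
    rfl
  rw [← connectedComponentIn_eq h1]
  exact mem_connectedComponentIn rfl

/-- Finitely many sections suffice. -/
theorem exists_finite (hR : EtCoh.IsStrictlyHenselianLocalRing R)
    (N : Over (Spec (CommRingCat.of R))) [GrpObj N] [Smooth N.hom] [QuasiCompact N.hom]
    (hgen : ∀ y : N.left, N.hom y ≠ IsLocalRing.closedPoint R →
      _root_.IsPreconnected (N.hom ⁻¹' {N.hom y})) :
    ∃ B : Finset (𝟙_ (Over (Spec (CommRingCat.of R))) ⟶ N), ∀ y : N.left, ∃ b ∈ B,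
      y ∈ MoreMor.sectionComponents N.hom b.left := by
  classical
  have hc : CompactSpace N.left := QuasiCompact.compactSpace_of_compactSpace N.hom
  have hcov : (Set.univ : Set N.left) ⊆ ⋃ b : 𝟙_ (Over (Spec (CommRingCat.of R))) ⟶ N,
      MoreMor.sectionComponents N.hom b.left := by
    intro y _
    rw [Set.mem_iUnion]
    by_cases hy : N.hom y = IsLocalRing.closedPoint R
    · exact exists_section_mem hR N y hy
    · exact ⟨η[N], mem_of_isPreconnected N.hom _ (sec_hom N _) y (hgen y hy)⟩
  obtain ⟨B, hB⟩ := isCompact_univ.elim_finite_subcover _ (fun b => isOpen N b) hcov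
  refine ⟨B, fun y => ?_⟩
  obtain ⟨b, hb, hy⟩ := Set.mem_iUnion₂.1 (hB (Set.mem_univ y))
  exact ⟨b, hb, hy⟩

end Cover

end Groth.Agent.Sga7.H755.FN.Comp
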