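import Groth.Agent.Sga7.H331.Chart

/-!
# Restriction of the descent data to a stable open subscheme

`E` the data of `Groth.Agent.Sga7.H331.Chart`, `W` an open of `E.X` containing the generic fibre
and stable under the lifts `L σ`.  `res E W`, `resL`: the restricted data; `ofRes`: charts of the
restricted data are charts of `E`.
-/

set_option autoImplicit false
set_option linter.unusedSectionVars false

universe u

open CategoryTheory CategoryTheory.Limits AlgebraicGeometry

namespace Groth.Agent.Sga7.H755.FN.Restrict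

open Groth.Agent.Sga7.H331

variable {R R' K K' : Type u} [CommRing R] [CommRing R'] [Algebra R R'] [Field K] [Field K']
  [Algebra R' K'] [Algebra K K'] (E : Data R' K K') (W : E.X.Opens)
  (hW : ∀ z, E.j z ∈ W)

/-- The generic fibre of the open subscheme. -/
noncomputable def jres : E.P ⟶ W.toScheme :=
  IsOpenImmersion.lift W.ι E.j (by
    rintro _ ⟨z, rfl⟩
    rw [Scheme.Opens.range_ι]
    exact hW z)

@[reassoc]
theorem jres_ι : jres E W hW ≫ W.ι = E.j := IsOpenImmersion.lift_fac _ _ _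

theorem isPullback_jres : IsPullback (jres E W hW) E.b (W.ι ≫ E.x)
    (Spec.map (CommRingCat.ofHom (algebraMap R' K'))) := by
  refine ⟨⟨by rw [jres_ι_assoc, E.hX.w]⟩, ⟨PullbackCone.IsLimit.mk _
    (fun s => E.hX.lift (s.fst ≫ W.ι) s.snd (by rw [Category.assoc]; exact s.condition))
    (fun s => ?_) (fun s => E.hX.lift_snd _ _ _) (fun s m h1 h2 => E.hX.hom_ext ?_ ?_)⟩⟩
  · rw [← cancel_mono W.ι, Category.assoc, jres_ι, E.hX.lift_fst]
  · rw [E.hX.lift_fst, ← h1, Category.assoc, jres_ι]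
  · rw [E.hX.lift_snd, ← h2]

/-- The restricted data. -/
noncomputable def res : Data R' K K' where
  A := E.A
  X := W.toScheme
  P := E.P
  a := E.a
  x := W.ι ≫ E.x
  b := E.b
  p := E.p
  j := jres E W hW
  hA := E.hA
  hX := isPullback_jres E W hW

variable {E} (L : ∀ σ : R' ≃ₐ[R] R', E.Lift σ) (hL : ∀ σ, W ≤ (L σ).φ ⁻¹ᵁ W)

/-- The restricted lifts. -/
noncomputable def resL (σ : R' ≃ₐ[R] R') : (res E W hW).Lift σ where
  φ := (L σ).φ.resLE W W (hL σ)
  ψ := (L σ).ψ
  hφ := by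
    change (L σ).φ.resLE W W (hL σ) ≫ W.ι ≫ E.x = (W.ι ≫ E.x) ≫ _
    rw [← Category.assoc, Scheme.Hom.resLE_comp_ι, Category.assoc, Category.assoc, (L σ).hφ]
  hψ := by
    change jres E W hW ≫ (L σ).φ.resLE W W (hL σ) = (L σ).ψ ≫ jres E W hW
    rw [← cancel_mono W.ι, Category.assoc, Scheme.Hom.resLE_comp_ι, Category.assoc, jres_ι,
      jres_ι_assoc, (L σ).hψ]
  hp := (L σ).hp

/-- Charts of the restricted data are charts. -/
noncomputable def ofRes (c : Data.Chart (resL W hW L hL)) : Data.Chart L where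
  U := W.ι ''ᵁ c.U
  V := c.V
  hU := by
    have h : IsAffineOpen (X := W.toScheme) c.U := c.hU
    exact h.image_of_isOpenImmersion W.ι
  hV := c.hV
  ne := by
    obtain ⟨z, hz⟩ := c.ne
    exact ⟨W.ι z, z, hz, rfl⟩
  hUV := by
    refine c.hUV.trans ?_
    change jres E W hW ⁻¹ᵁ c.U = E.j ⁻¹ᵁ (W.ι ''ᵁ c.U)
    rw [← jres_ι E W hW, Scheme.Hom.comp_preimage, Scheme.Hom.preimage_image_eq]
  stable σ := by
    rintro _ ⟨z, hz, rfl⟩
    change (L σ).φ (W.ι z) ∈ W.ι ''ᵁ c.U
    have h1 : (resL W hW L hL σ).φ z ∈ c.U := c.stable σ hz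
    have h2 : W.ι ((resL W hW L hL σ).φ z) = (L σ).φ (W.ι z) := by
      change W.ι ((L σ).φ.resLE W W (hL σ) z) = _
      rw [← Scheme.Hom.comp_apply, Scheme.Hom.resLE_comp_ι, Scheme.Hom.comp_apply]
    rw [← h2]
    exact ⟨_, h1, rfl⟩

theorem mem_ofRes (c : Data.Chart (resL W hW L hL)) (y : W) (hy : y ∈ c.U) :
    (y : E.X) ∈ (ofRes W hW L hL c).U := ⟨y, hy, rfl⟩

end Groth.Agent.Sga7.H755.FN.Restrict
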