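import Groth.Agent.Sga7.H516.NeronNeutral
import Groth.Agent.Sga3B.BcIso

/-!
# Sections defined over small fields, and the semilinear action

* `exists_finset_fix`: a `K'`-point of a `K`-scheme locally of finite type is fixed by the
  endomorphisms of `K'` over `K` which fix a suitable finite set.
* `exists_bcIso`: transitivity of base change for group schemes.
* `secK`, `sec_semilinear`: a section `b` of the group scheme `N` over `R'` whose generic fibre is
  fixed by `σ` is compatible with the semilinear automorphism of `N` attached to `σ`.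
-/

set_option autoImplicit false
set_option linter.unusedSectionVars false
universe u

open CategoryTheory CategoryTheory.Limits AlgebraicGeometry MonoidalCategory
  CartesianMonoidalCategory MonObj GrpObj

namespace Groth.Agent.Sga7.H755.FN.FixSec

open Groth.Agent.Sga7.H516 Groth.Agent.Sga7.H516.Square Groth.Agent.Sga7.H516.NeronNeutral

/-- Finitely many elements control a point. -/
theorem exists_finset_fix {K K' : Type u} [Field K] [Field K'] [Algebra K K'] {A : Scheme.{u}}
    (a : A ⟶ Spec (CommRingCat.of K)) [LocallyOfFiniteType a]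
    (x : Spec (CommRingCat.of K') ⟶ A) (hx : x ≫ a = sp K K') :
    ∃ s : Finset K', ∀ τ : K' →+* K', τ.comp (algebraMap K K') = algebraMap K K' →
      (∀ z ∈ s, τ z = z) → Spec.map (CommRingCat.ofHom τ) ≫ x = x := by
  classical
  obtain ⟨U, hU, hxU, -⟩ := exists_isAffineOpen_mem_and_subset (X := A)
    (x := x (IsLocalRing.closedPoint K')) (U := ⊤) trivial
  let j := hU.fromSpec
  have hr : Set.range x ⊆ Set.range j := by
    rintro _ ⟨z, rfl⟩
    have h1 : Set.range j = U := hU.range_fromSpec
    have : Subsingleton (Spec (CommRingCat.of K')) := inferInstance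
    rw [h1, Subsingleton.elim z (IsLocalRing.closedPoint K')]
    exact hxU
  obtain ⟨φ, hφ⟩ := Spec.map_surjective (IsOpenImmersion.lift j x hr)
  have hy : Spec.map φ ≫ j = x := by
    rw [hφ]
    exact IsOpenImmersion.lift_fac _ _ _
  obtain ⟨ψ, hψ⟩ := Spec.map_surjective (j ≫ a)
  have hft : LocallyOfFiniteType (j ≫ a) := inferInstance
  rw [← hψ, HasRingHomProperty.Spec_iff (P := @LocallyOfFiniteType)] at hft
  let _ : Algebra K Γ(A, U) := ψ.hom.toAlgebra
  have hft' : Algebra.FiniteType K Γ(A, U) := hft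
  obtain ⟨g, hg⟩ := hft'.out
  have hψφ : ψ ≫ φ = CommRingCat.ofHom (algebraMap K K') := by
    apply Spec.map_injective
    rw [Spec.map_comp, hψ, reassoc_of% hy, hx]
  have hc : ∀ r : K, φ.hom (ψ.hom r) = algebraMap K K' r := fun r => congr($hψφ r)
  refine ⟨g.image φ.hom, fun τ hτ hs => ?_⟩
  let f₂ : Γ(A, U) →ₐ[K] K' := { toRingHom := φ.hom, commutes' := hc }
  let f₁ : Γ(A, U) →ₐ[K] K' :=
    { toRingHom := τ.comp φ.hom
      commutes' := fun r => by
        change τ (φ.hom (ψ.hom r)) = _
        rw [hc]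
        exact congr($hτ r) }
  have h12 : f₁ = f₂ := AlgHom.ext_of_adjoin_eq_top hg (fun y hy' =>
    hs _ (Finset.mem_image_of_mem _ hy'))
  have h3 : φ ≫ CommRingCat.ofHom τ = φ := by
    ext y
    exact congr($h12 y)
  rw [← hy, ← Category.assoc, ← Spec.map_comp, h3]

/-- Transitivity of base change for group schemes. -/
theorem exists_bcIso {S S' S'' : Scheme.{u}} (q : S'' ⟶ S') (g : S' ⟶ S) (h : S'' ⟶ S)
    (hh : q ≫ g = h) (G : Over S) [GrpObj G] :
    ∃ ε : Red.bc h G ≅ Red.bc q (Red.bc g G), IsMonHom ε.hom ∧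
      ε.hom.left ≫ pullback.fst (Red.bc g G).hom q ≫ pullback.fst G.hom g =
        pullback.fst G.hom h := by
  subst hh
  refine ⟨(Grp.forget _).mapIso (Groth.Agent.Sga3B.BcIso.bcCompIso q g G), ?_, ?_⟩
  · exact (Groth.Agent.Sga3B.BcIso.bcCompIso q g G).hom.hom.isMonHom_hom
  · have h1 : (Groth.Agent.Sga3B.BcIso.bcCompIso q g G).hom.hom.hom.left =
        ((Over.pullbackComp q g).hom.app G).left := by
      change ((Over.pullbackComp q g).hom.app G).left ≫ 𝟙 _ = _
      rw [Category.comp_id]
    have h := conjugateEquiv_counit (Over.mapPullbackAdj (q ≫ g))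
      ((Over.mapPullbackAdj q).comp (Over.mapPullbackAdj g)) (Over.mapComp q g).inv G
    have h2 := congrArg (fun z => z.left) h
    simp at h2
    change (Groth.Agent.Sga3B.BcIso.bcCompIso q g G).hom.hom.hom.left ≫ _ = _
    rw [h1]
    exact h2

section Semi

variable {R R' : Type u} (K K' : Type u) [CommRing R] [IsDomain R] [CommRing R'] [IsDomain R']
  [Algebra R R'] [Field K] [Algebra R K] [IsFractionRing R K] [Field K'] [Algebra R' K']
  [IsFractionRing R' K'] [Algebra K K'] [Algebra R K'] [IsScalarTower R K K']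
  [IsScalarTower R R' K']
  {A : Over (Spec (CommRingCat.of K))}
  {N : Over (Spec (CommRingCat.of R'))}
  (e : (SGA7.genFib R' K').obj N ≅ Red.bc (sp K K') A)

/-- The generic fibre of a section. -/
noncomputable def secK (b : Spec (CommRingCat.of R') ⟶ N.left) (hb : b ≫ N.hom = 𝟙 _) :
    Spec (CommRingCat.of K') ⟶ (Red.bc (sp K K') A).left :=
  (isPullback_genι K' e).lift (sp R' K' ≫ b) (𝟙 _) (by
    rw [Category.assoc, hb, Category.comp_id, Category.id_comp])

theorem secK_genι (b : Spec (CommRingCat.of R') ⟶ N.left) (hb : b ≫ N.hom = 𝟙 _) :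
    secK K K' e b hb ≫ genι K' e = sp R' K' ≫ b :=
  (isPullback_genι K' e).lift_fst _ _ _

theorem secK_hom (b : Spec (CommRingCat.of R') ⟶ N.left) (hb : b ≫ N.hom = 𝟙 _) :
    secK K K' e b hb ≫ (Red.bc (sp K K') A).hom = 𝟙 _ :=
  (isPullback_genι K' e).lift_snd _ _ _

/-- A section whose generic fibre is fixed by `σ` is compatible with the semilinear
automorphism. -/
theorem sec_semilinear [IsSeparated N.hom] (b : Spec (CommRingCat.of R') ⟶ N.left)
    (hb : b ≫ N.hom = 𝟙 _) (σ : R' ≃ₐ[R] R') (φ : N.left ⟶ N.left)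
    (h1 : φ ≫ N.hom = N.hom ≫ spAut σ) (h2 : genι K' e ≫ φ = twist K K' A σ ≫ genι K' e)
    (hfix : spAutK K K' σ ≫ secK K K' e b hb ≫ pullback.fst A.hom (sp K K') =
      secK K K' e b hb ≫ pullback.fst A.hom (sp K K')) :
    b ≫ φ = spAut σ ≫ b := by
  refine H116.L1.ext_of_schemeDominant (sp R' K') N.hom _ _ ?_ ?_
  · rw [Category.assoc, h1, reassoc_of% hb, Category.assoc, hb, Category.comp_id]
  · have hs := secK_hom K K' e b hb
    have hs' : secK K K' e b hb ≫ pullback.snd A.hom (sp K K') = 𝟙 _ := hs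
    have h3 : secK K K' e b hb ≫ twist K K' A σ = spAutK K K' σ ≫ secK K K' e b hb := by
      apply pullback.hom_ext
      · rw [Category.assoc, twist_fst, Category.assoc]
        exact hfix.symm
      · rw [Category.assoc, twist_snd, Category.assoc, reassoc_of% hs', hs', Category.comp_id]
    rw [← Category.assoc, ← secK_genι K K' e b hb, Category.assoc, h2, ← Category.assoc, h3,
      Category.assoc, secK_genι, ← Category.assoc, spAutK_sp', Category.assoc]

end Semi

end Groth.Agent.Sga7.H755.FN.FixSec
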