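import Groth.Agent.Hensel.Lazard
import Groth.Agent.Hensel.FiniteEtaleLift
import Groth.Agent.Sga7.H516.SHBasic
import Mathlib.FieldTheory.PrimitiveElement
import Mathlib.Algebra.Polynomial.Eval.Irreducible

/-!
# Strict henselizations in towers, and finite étale local extensions inside a strict henselization

`R'` a strict henselization of the local ring `R`.

* `tower`: `R'` is a strict henselization of every local, essentially finite, formally unramified
  `R`-algebra `R₁` over which it lives.
* `exists_fix`: an automorphism of `R'` over `R` fixes a given finite set as soon as its residue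
  fixes some finite set depending only on the given one.
* `exists_finite_etale`: `R` a discrete valuation ring: a discrete valuation ring `R₁` finite
  étale over `R` inside `R'` whose residue field contains a given finite set.
* `exists_finite_etale_fix`: the same with every automorphism over `R₁` fixing a given finite set.
-/

set_option autoImplicit false
set_option linter.unusedSectionVars false
universe u

open IsLocalRing Polynomial

namespace Groth.Agent.Sga7.H755.FN.SHTower

section Tower

variable (R R₁ R' : Type u) [CommRing R] [IsLocalRing R] [CommRing R₁] [IsLocalRing R₁]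
  [CommRing R'] [IsLocalRing R'] [Algebra R R₁] [Algebra R₁ R'] [Algebra R R']
  [IsScalarTower R R₁ R'] [IsLocalHom (algebraMap R R₁)] [IsLocalHom (algebraMap R₁ R')]
  [IsLocalHom (algebraMap R R')]

/-- A strict henselization of `R` is a strict henselization of local unramified `R`-algebras. -/
theorem tower [Algebra.EssFiniteType R R₁] [Algebra.FormallyUnramified R R₁]
    [h : Hensel.IsStrictHenselization R R'] : Hensel.IsStrictHenselization R₁ R' where
  henselian := h.henselian
  isSepClosure := by
    have h1 := h.isSepClosure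
    have h2 : Algebra.IsSeparable (ResidueField R) (ResidueField R') := h1.separable
    exact ⟨h1.sep_closed, Algebra.isSeparable_tower_top_of_isSeparable (ResidueField R) _ _⟩
  universal T _ _ f _ τ hτ := by
    have hf : IsLocalHom (f.comp (algebraMap R R₁)) := inferInstance
    have h0 : τ.comp (ResidueField.map (algebraMap R R')) =
        ResidueField.map (f.comp (algebraMap R R₁)) := by
      ext x
      obtain ⟨x, rfl⟩ := residue_surjective x
      have h1 := congr($hτ (residue R₁ (algebraMap R R₁ x)))
      simp only [RingHom.comp_apply, ResidueField.map_residue] at h1 ⊢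
      rw [← h1, ← IsScalarTower.algebraMap_apply]
    obtain ⟨g, ⟨hg, hg'⟩, hu⟩ := h.universal T (f.comp (algebraMap R R₁)) τ h0
    have h1 : g.comp (algebraMap R₁ R') = f := by
      let _ : Algebra R T := (f.comp (algebraMap R R₁)).toAlgebra
      let f₁ : R₁ →ₐ[R] T := { toRingHom := f, commutes' := fun r => rfl }
      let g₁ : R₁ →ₐ[R] T :=
        { toRingHom := g.comp (algebraMap R₁ R')
          commutes' := fun r => by
            have h2 := congr($hg r)
            change g (algebraMap R₁ R' (algebraMap R R₁ r)) = f (algebraMap R R₁ r)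
            rw [← IsScalarTower.algebraMap_apply]
            exact h2 }
      have h3 : g₁ = f₁ := Groth.Agent.Hensel.LocalEtale.algHom_eq_of_residue_eq _ _ (fun a => by
        change residue T (g (algebraMap R₁ R' a)) = residue T (f a)
        rw [hg']
        exact congr($hτ (residue R₁ a)))
      exact congrArg (fun t : R₁ →ₐ[R] T => t.toRingHom) h3
    refine ⟨g, ⟨h1, hg'⟩, ?_⟩
    rintro g' ⟨h2, h3⟩
    refine hu g' ⟨?_, h3⟩
    rw [← h2, RingHom.comp_assoc, ← IsScalarTower.algebraMap_eq]

end Tower

section Fix

variable (R R' : Type u) [CommRing R] [IsLocalRing R] [CommRing R'] [IsLocalRing R'] [Algebra R R']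
  [IsLocalHom (algebraMap R R')] [Hensel.IsStrictHenselization R R']

/-- An automorphism fixes a given finite set if its residue fixes a suitable finite set. -/
theorem exists_fix (s : Finset R') : ∃ t : Finset (ResidueField R'), ∀ σ : R' ≃ₐ[R] R',
    (∀ y : R', residue R' y ∈ t → residue R' (σ y) = residue R' y) → ∀ x ∈ s, σ x = x := by
  classical
  obtain ⟨E, _, _, _, χ, hχ⟩ :=
    Groth.Agent.Hensel.Lazard.exists_etale_of_isStrictHenselization R R' s
  have hft : Algebra.FiniteType R E := inferInstance
  obtain ⟨g, hg⟩ := hft.out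
  refine ⟨g.image (fun e => residue R' (χ e)), fun σ hσ x hx => ?_⟩
  have h1 : (σ : R' →ₐ[R] R').comp χ = χ := by
    apply Groth.Agent.Hensel.LocalEtale.algHom_eq_of_residue_eq
    intro a
    let ρ : R' →ₐ[R] ResidueField R' := IsScalarTower.toAlgHom R R' (ResidueField R')
    have h2 : (ρ.comp ((σ : R' →ₐ[R] R').comp χ)) = ρ.comp χ := by
      apply AlgHom.ext_of_adjoin_eq_top hg
      intro e he
      exact hσ (χ e) (Finset.mem_image_of_mem _ he)
    exact congr($h2 a)
  obtain ⟨e, rfl⟩ := hχ hx
  exact congr($h1 e)

end Fix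

section FiniteEtale

variable (R R' : Type u) [CommRing R] [IsDomain R] [IsDiscreteValuationRing R] [CommRing R']
  [IsDomain R'] [IsLocalRing R'] [Algebra R R'] [IsLocalHom (algebraMap R R')]
  [Hensel.IsStrictHenselization R R']

/-- A finite algebra over a local ring whose reduction is a field is local with the expected
maximal ideal. -/
theorem isLocalRing_of_isMaximal (A B : Type u) [CommRing A] [IsLocalRing A] [CommRing B]
    [Algebra A B] [Module.Finite A B] (h : ((maximalIdeal A).map (algebraMap A B)).IsMaximal) :
    ∃ _ : IsLocalRing B, maximalIdeal B = (maximalIdeal A).map (algebraMap A B) := by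
  have hloc : IsLocalRing B := by
    refine IsLocalRing.of_unique_max_ideal ⟨_, h, fun J hJ => ?_⟩
    have hJ' : J.IsMaximal := hJ
    have hint : Algebra.IsIntegral A B := inferInstance
    have h1 : (J.comap (algebraMap A B)).IsMaximal :=
      Ideal.isMaximal_comap_of_isIntegral_of_isMaximal J
    have h2 : J.comap (algebraMap A B) = maximalIdeal A := eq_maximalIdeal h1
    have h3 : (maximalIdeal A).map (algebraMap A B) ≤ J := by
      rw [Ideal.map_le_iff_le_comap, h2]
    exact (h.eq_of_le hJ'.ne_top h3).symm
  exact ⟨hloc, (eq_maximalIdeal h).symm⟩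

theorem exists_finite_etale (t : Finset (ResidueField R')) :
    ∃ (R₁ : Type u) (_ : CommRing R₁) (_ : IsDomain R₁) (_ : IsDiscreteValuationRing R₁)
      (_ : Algebra R R₁) (_ : Algebra R₁ R') (_ : IsScalarTower R R₁ R')
      (_ : IsLocalHom (algebraMap R R₁)) (_ : IsLocalHom (algebraMap R₁ R')),
      Module.Finite R R₁ ∧ Algebra.Etale R R₁ ∧ Hensel.IsStrictHenselization R₁ R' ∧
      ∀ x ∈ t, ∃ r : R₁, residue R' (algebraMap R₁ R' r) = x := by
  have hsc : IsSepClosure (ResidueField R) (ResidueField R') :=
    Hensel.IsStrictHenselization.isSepClosure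
  have hsep : Algebra.IsSeparable (ResidueField R) (ResidueField R') := hsc.separable
  -- primitive element
  have hfd : FiniteDimensional (ResidueField R)
      (IntermediateField.adjoin (ResidueField R) (t : Set (ResidueField R'))) :=
    IntermediateField.finiteDimensional_adjoin (fun x _ => (hsep.isSeparable' x).isIntegral)
  obtain ⟨θ₀, hθ₀⟩ := Field.exists_primitive_element (ResidueField R)
    (IntermediateField.adjoin (ResidueField R) (t : Set (ResidueField R')))
  let θ : ResidueField R' := θ₀
  have hθ : ∀ x ∈ t, ∃ g : (ResidueField R)[X], aeval θ g = x := by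
    intro x hx
    have h1 : (⟨x, IntermediateField.subset_adjoin _ _ hx⟩ :
      IntermediateField.adjoin (ResidueField R) (t : Set (ResidueField R'))) ∈
        IntermediateField.adjoin (ResidueField R) {θ₀} := by
      rw [hθ₀]
      trivial
    have h2 : IsIntegral (ResidueField R) θ₀ := Algebra.IsIntegral.isIntegral θ₀
    rw [← IntermediateField.mem_toSubalgebra,
      IntermediateField.adjoin_simple_toSubalgebra_of_isAlgebraic h2.isAlgebraic,
      Algebra.adjoin_singleton_eq_range_aeval] at h1
    obtain ⟨g, hg⟩ := h1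
    refine ⟨g, ?_⟩
    have h3 := congrArg (algebraMap _ (ResidueField R')) hg
    exact (Polynomial.aeval_algebraMap_apply (ResidueField R') θ₀ g).trans h3
  have hθs : IsSeparable (ResidueField R) θ := hsep.isSeparable' θ
  -- lift the minimal polynomial
  obtain ⟨f, hfp, hfd, hf⟩ := Polynomial.lifts_and_natDegree_eq_and_monic
    (f := residue R) (p := minpoly (ResidueField R) θ)
    ((Polynomial.lifts_iff_coeff_lifts _).2 (fun n => residue_surjective _))
    (minpoly.monic hθs.isIntegral)
  have hirr : Irreducible (f.map (residue R)) := by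
    rw [hfp]
    exact minpoly.irreducible hθs.isIntegral
  have hsepf : (f.map (residue R)).Separable := by
    rw [hfp]
    exact hθs
  have hfin : Module.Finite R (AdjoinRoot f) := hf.finite_adjoinRoot
  have het : Algebra.Etale R (AdjoinRoot f) := by
    apply Groth.Agent.Hensel.FiniteEtaleLift.etale_adjoinRoot f hf
    apply Groth.Agent.Hensel.FiniteEtaleLift.isCoprime_of_isCoprime_residue f _ hf
    rw [← derivative_map]
    exact hsepf
  -- the map to `R'`
  have hroot : aeval θ f = 0 := by
    have h1 : aeval θ (f.map (residue R)) = aeval θ f :=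
      Polynomial.aeval_map_algebraMap (ResidueField R) θ f
    rw [← h1, hfp, minpoly.aeval]
  obtain ⟨φ, hφ, -⟩ := Groth.Agent.Hensel.Lazard.existsUnique_of_isStrictHenselization R R'
    (AdjoinRoot f) (AdjoinRoot.liftAlgHom f (Algebra.ofId R (ResidueField R')) θ hroot)
  have hφr : residue R' (φ (AdjoinRoot.root f)) = θ := by
    rw [hφ]
    exact AdjoinRoot.liftAlgHom_root f _ θ hroot
  let b : R' := φ (AdjoinRoot.root f)
  have hφmk : ∀ g : R[X], φ (AdjoinRoot.mk f g) = aeval b g := by
    intro g
    rw [← AdjoinRoot.aeval_eq, ← Polynomial.aeval_algHom_apply]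
  have hb : aeval b f = 0 := by
    rw [← hφmk, AdjoinRoot.mk_self, map_zero]
  have hfs : FaithfulSMul R R' :=
    (faithfulSMul_iff_algebraMap_injective R R').2 (H516.SHBasic.algebraMap_injective R R')
  have hbi : IsIntegral R b := ⟨f, hf, hb⟩
  have hmin : minpoly R b = f := by
    have h1 : minpoly R b ∣ f := minpoly.isIntegrallyClosed_dvd hbi hb
    obtain ⟨g, hg⟩ := h1
    have h2 : Irreducible f := Polynomial.Monic.irreducible_of_irreducible_map (residue R) f hf hirr
    rcases h2.isUnit_or_isUnit hg with h | h
    · exact absurd h (minpoly.not_isUnit R _)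
    · exact Polynomial.eq_of_monic_of_associated (minpoly.monic hbi) hf ⟨h.unit, by rw [hg]; rfl⟩
  have hinj : Function.Injective φ := by
    rw [injective_iff_map_eq_zero]
    intro x hx
    obtain ⟨g, rfl⟩ := AdjoinRoot.mk_surjective x
    rw [hφmk] at hx
    rw [AdjoinRoot.mk_eq_zero, ← hmin]
    exact minpoly.isIntegrallyClosed_dvd hbi hx
  have hdom : IsDomain (AdjoinRoot f) := hinj.isDomain φ.toRingHom
  -- local
  have hmax : ((maximalIdeal R).map (algebraMap R (AdjoinRoot f))).IsMaximal := by
    have h1 : ∀ x : AdjoinRoot f, x ∉ (maximalIdeal R).map (algebraMap R (AdjoinRoot f)) →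
        ∃ y, y * x - 1 ∈ (maximalIdeal R).map (algebraMap R (AdjoinRoot f)) := by
      intro x hx
      obtain ⟨g, rfl⟩ := AdjoinRoot.mk_surjective x
      have h2 : ∀ q : R[X], q.map (residue R) = 0 → AdjoinRoot.mk f q ∈
          (maximalIdeal R).map (algebraMap R (AdjoinRoot f)) := by
        intro q hq
        have h3 : q ∈ (maximalIdeal R).map (C : R →+* R[X]) := by
          rw [Ideal.mem_map_C_iff]
          intro n
          rw [← residue_eq_zero_iff, ← Polynomial.coeff_map, hq, Polynomial.coeff_zero]
        have h4 := Ideal.mem_map_of_mem (AdjoinRoot.mk f) h3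
        rw [Ideal.map_map] at h4
        exact h4
      have h3 : ¬ f.map (residue R) ∣ g.map (residue R) := by
        rintro ⟨q, hq⟩
        obtain ⟨q', rfl⟩ := Polynomial.map_surjective (residue R) residue_surjective q
        apply hx
        have h4 := h2 (g - f * q') (by rw [Polynomial.map_sub, Polynomial.map_mul, hq, sub_self])
        rwa [map_sub, map_mul, AdjoinRoot.mk_self, zero_mul, sub_zero] at h4
      obtain ⟨u, v, huv⟩ := (hirr.coprime_iff_not_dvd.2 h3)
      obtain ⟨u, rfl⟩ := Polynomial.map_surjective (residue R) residue_surjective u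
      obtain ⟨v, rfl⟩ := Polynomial.map_surjective (residue R) residue_surjective v
      refine ⟨AdjoinRoot.mk f v, ?_⟩
      have h4 := h2 (u * f + v * g - 1) (by
        rw [Polynomial.map_sub, Polynomial.map_add, Polynomial.map_mul, Polynomial.map_mul, huv,
          Polynomial.map_one, sub_self])
      rwa [map_sub, map_add, map_mul, map_mul, AdjoinRoot.mk_self, mul_zero, zero_add,
        map_one] at h4
    rw [Ideal.isMaximal_iff]
    refine ⟨fun h1' => ?_, fun J x hJ hx hxJ => ?_⟩
    · have h2 := Ideal.mem_map_of_mem φ.toRingHom h1'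
      rw [Ideal.map_map] at h2
      have h3 : (φ.toRingHom.comp (algebraMap R (AdjoinRoot f))) = algebraMap R R' :=
        φ.comp_algebraMap
      rw [h3] at h2
      have h4 : (maximalIdeal R).map (algebraMap R R') ≤ maximalIdeal R' :=
        ((local_hom_TFAE (algebraMap R R')).out 0 2 rfl rfl).mp inferInstance
      have h5 := h4 h2
      rw [AlgHom.toRingHom_eq_coe, RingHom.coe_coe, map_one] at h5
      exact (Ideal.ne_top_iff_one _).1 (maximalIdeal.isMaximal R').ne_top h5
    · obtain ⟨y, hy⟩ := h1 x hx
      have h2 := hJ hy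
      have h3 : y * x ∈ J := J.mul_mem_left y hxJ
      have h4 := J.sub_mem h3 h2
      rwa [sub_sub_cancel] at h4
  obtain ⟨hloc, hmaxeq⟩ := isLocalRing_of_isMaximal R (AdjoinRoot f) hmax
  obtain ⟨π, hπ⟩ := IsDiscreteValuationRing.exists_irreducible R
  have hinj2 : Function.Injective (algebraMap R (AdjoinRoot f)) := by
    have h1 := H516.SHBasic.algebraMap_injective R R'
    rw [← φ.comp_algebraMap] at h1
    exact Function.Injective.of_comp h1
  have hprin : maximalIdeal (AdjoinRoot f) = Ideal.span {algebraMap R (AdjoinRoot f) π} := by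
    rw [hmaxeq, hπ.maximalIdeal_eq, Ideal.map_span, Set.image_singleton]
  have hnf : ¬ IsField (AdjoinRoot f) := by
    intro h
    rw [IsLocalRing.isField_iff_maximalIdeal_eq, hprin, Ideal.span_singleton_eq_bot,
      map_eq_zero_iff _ hinj2] at h
    exact hπ.ne_zero h
  have hnoeth : IsNoetherianRing (AdjoinRoot f) := inferInstance
  have hdvr : IsDiscreteValuationRing (AdjoinRoot f) :=
    ((IsDiscreteValuationRing.TFAE (AdjoinRoot f) hnf).out 0 4 rfl rfl).2 ⟨_, hprin⟩
  let _ : Algebra (AdjoinRoot f) R' := φ.toRingHom.toAlgebra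
  have htow : IsScalarTower R (AdjoinRoot f) R' := IsScalarTower.of_algebraMap_eq' φ.comp_algebraMap.symm
  have hl1 : IsLocalHom (algebraMap R (AdjoinRoot f)) := by
    apply ((local_hom_TFAE (algebraMap R (AdjoinRoot f))).out 0 2 rfl rfl).mpr
    exact hmaxeq.ge
  have hl2 : IsLocalHom (algebraMap (AdjoinRoot f) R') := by
    apply ((local_hom_TFAE (algebraMap (AdjoinRoot f) R')).out 0 2 rfl rfl).mpr
    rw [hmaxeq, Ideal.map_map, ← IsScalarTower.algebraMap_eq]
    exact ((local_hom_TFAE (algebraMap R R')).out 0 2 rfl rfl).mp inferInstance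
  refine ⟨AdjoinRoot f, inferInstance, hdom, hdvr, inferInstance, inferInstance, htow, hl1, hl2,
    hfin, het, tower R (AdjoinRoot f) R', fun x hx => ?_⟩
  obtain ⟨g, rfl⟩ := hθ x hx
  obtain ⟨g, rfl⟩ := Polynomial.map_surjective (residue R) residue_surjective g
  refine ⟨AdjoinRoot.mk f g, ?_⟩
  change residue R' (φ (AdjoinRoot.mk f g)) = _
  rw [hφmk]
  have h1 : aeval θ (g.map (residue R)) = aeval θ g :=
    Polynomial.aeval_map_algebraMap (ResidueField R) θ g
  rw [h1, ← hφr]
  exact (Polynomial.aeval_algebraMap_apply (ResidueField R') b g).symm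

theorem exists_finite_etale_fix (s : Finset R') :
    ∃ (R₁ : Type u) (_ : CommRing R₁) (_ : IsDomain R₁) (_ : IsDiscreteValuationRing R₁)
      (_ : Algebra R R₁) (_ : Algebra R₁ R') (_ : IsScalarTower R R₁ R')
      (_ : IsLocalHom (algebraMap R R₁)) (_ : IsLocalHom (algebraMap R₁ R')),
      Module.Finite R R₁ ∧ Algebra.Etale R R₁ ∧ Hensel.IsStrictHenselization R₁ R' ∧
      ∀ σ : R' ≃ₐ[R₁] R', ∀ x ∈ s, σ x = x := by
  obtain ⟨t, ht⟩ := exists_fix R R' s
  obtain ⟨R₁, i1, i2, i3, i4, i5, i6, i7, i8, h1, h2, h3, h4⟩ := exists_finite_etale R R' t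
  refine ⟨R₁, i1, i2, i3, i4, i5, i6, i7, i8, h1, h2, h3, fun σ x hx => ?_⟩
  refine ht (σ.restrictScalars R) (fun y hy => ?_) x hx
  obtain ⟨r, hr⟩ := h4 _ hy
  have h5 : y - algebraMap R₁ R' r ∈ maximalIdeal R' := by
    rw [← residue_eq_zero_iff, map_sub, hr, sub_self]
  have h6 : σ (y - algebraMap R₁ R' r) ∈ maximalIdeal R' := by
    rw [mem_maximalIdeal, mem_nonunits_iff] at h5 ⊢
    intro h7
    apply h5
    have h8 := h7.map (σ.symm : R' →+* R')
    simpa using h8
  rw [map_sub, σ.commutes, ← residue_eq_zero_iff, map_sub, hr, sub_eq_zero] at h6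
  exact h6

end FiniteEtale

end Groth.Agent.Sga7.H755.FN.SHTower
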