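import Groth.Agent.Sga7.H516.NeronExt
import Groth.Agent.Sga7.H516.GenExt

/-!
# The Neron property descends along a strict henselization

* `isNeron_of`: a smooth separated quasi-compact scheme over a domain with the extension property
  for arbitrary cartesian squares is a Neron model.
* `isNeron_desc`: `R` a discrete valuation ring, `R'` a strict henselization, `G` a smooth
  separated quasi-compact scheme over `R` such that `G ×_R R'` is a Neron model; then `G` is a
  Neron model.
-/

set_option autoImplicit false
set_option linter.unusedSectionVars false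
universe u

open CategoryTheory CategoryTheory.Limits AlgebraicGeometry

namespace Groth.Agent.Sga7.H755.FN.NeronDesc

open Groth.Agent.Sga7.H516 Groth.Agent.Sga7.H516.Square

section Of

variable {R K : Type u} [CommRing R] [IsDomain R] [Field K] [Algebra R K] [IsFractionRing R K]

/-- The extension property for arbitrary cartesian squares implies the Neron property. -/
theorem isNeron_of (N : Over (Spec (CommRingCat.of R))) [Smooth N.hom] [IsSeparated N.hom]
    [QuasiCompact N.hom]
    (h : ∀ (Y : Scheme.{u}) (y : Y ⟶ Spec (CommRingCat.of R)) [Smooth y]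
      (f : pullback y (sp R K) ⟶ N.left) (_ : f ≫ N.hom = pullback.snd y (sp R K) ≫ sp R K),
      ∃ g : Y ⟶ N.left, g ≫ N.hom = y ∧ pullback.fst y (sp R K) ≫ g = f) :
    SGA7.IsNeron R K N := by
  refine ⟨inferInstance, inferInstance, inferInstance, fun Y hY => ⟨?_, ?_⟩⟩
  · intro g g' hgg
    dsimp only at hgg
    have e : ∀ (k : Y ⟶ N), ((Over.pullback (sp R K)).map k).left ≫
        pullback.fst N.hom (sp R K) = pullback.fst Y.hom (sp R K) ≫ k.left :=
        fun k => pullback.lift_fst _ _ _
    have h1 : pullback.fst Y.hom (sp R K) ≫ g.left = pullback.fst Y.hom (sp R K) ≫ g'.left := by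
      rw [← e, ← e]
      exact congrArg (fun t => t.left ≫ pullback.fst N.hom (sp R K)) hgg
    ext1
    exact GenExt.ext_of_generic (x := Y.hom) (y := N.hom) (IsPullback.of_hasPullback Y.hom (sp R K))
      ((Over.w g).trans (Over.w g').symm) h1
  · intro F
    obtain ⟨g, hg, hg'⟩ := h Y.left Y.hom (F.left ≫ pullback.fst N.hom (sp R K)) (by
      rw [Category.assoc, pullback.condition, ← Category.assoc]
      exact congrArg (· ≫ sp R K) (Over.w F))
    refine ⟨Over.homMk g hg, ?_⟩
    dsimp only
    ext1
    apply pullback.hom_ext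
    · refine (pullback.lift_fst _ _ _).trans ?_
      exact hg'
    · refine (Over.w ((Over.pullback (sp R K)).map (Over.homMk g hg : Y ⟶ N))).trans ?_
      exact (Over.w F).symm

end Of

section Desc

variable (R R' K K' : Type u) [CommRing R] [IsDomain R] [IsDiscreteValuationRing R] [CommRing R']
  [IsDomain R'] [IsLocalRing R'] [Algebra R R'] [IsLocalHom (algebraMap R R')]
  [Hensel.IsStrictHenselization R R']
  [Field K] [Algebra R K] [IsFractionRing R K] [Field K'] [Algebra R' K'] [IsFractionRing R' K']
  [Algebra K K'] [Algebra R K'] [IsScalarTower R K K'] [IsScalarTower R R' K']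

/-- **The Neron property descends along a strict henselization.** -/
theorem isNeron_desc (G : Over (Spec (CommRingCat.of R))) [Smooth G.hom] [IsSeparated G.hom]
    [QuasiCompact G.hom] {N : Over (Spec (CommRingCat.of R'))} (hN : SGA7.IsNeron R' K' N)
    (φ : Red.bc (sp R R') G ≅ N) : SGA7.IsNeron R K G := by
  refine isNeron_of G (fun Y y hy f hf => ?_)
  let px := pullback.fst y (sp R R')
  let x' := pullback.snd y (sp R R')
  let jx := pullback.fst y (sp R K)
  let xE := pullback.snd y (sp R K)
  have hX' : IsPullback px x' y (sp R R') := IsPullback.of_hasPullback y (sp R R')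
  have hXE : IsPullback jx xE y (sp R K) := IsPullback.of_hasPullback y (sp R K)
  have hS := isPullback_sp R R' K K'
  have hw : (pullback.snd px jx ≫ xE) ≫ sp R K = (pullback.fst px jx ≫ x') ≫ sp R R' := by
    rw [Category.assoc, ← hXE.w, Category.assoc, ← hX'.w, ← Category.assoc, ← Category.assoc,
      pullback.condition]
  let b : pullback px jx ⟶ Spec (CommRingCat.of K') := hS.lift (pullback.snd px jx ≫ xE)
    (pullback.fst px jx ≫ x') hw
  have hb1 : b ≫ sp K K' = pullback.snd px jx ≫ xE := hS.lift_fst _ _ hw
  have hb2 : b ≫ sp R' K' = pullback.fst px jx ≫ x' := hS.lift_snd _ _ hw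
  have hsq : IsPullback (pullback.fst px jx) b x' (sp R' K') := by
    have h1 := (IsPullback.of_hasPullback px jx).paste_vert hXE
    rw [← hb1, hX'.w] at h1
    exact IsPullback.of_bot h1 hb2.symm hS.flip
  have hx' : Smooth x' := inferInstanceAs (Smooth (pullback.snd y (sp R R')))
  have hφ : φ.hom.left ≫ N.hom = pullback.snd G.hom (sp R R') := Over.w φ.hom
  have hφ' : φ.inv.left ≫ pullback.snd G.hom (sp R R') = N.hom := Over.w φ.inv
  have hφφ : φ.hom.left ≫ φ.inv.left = 𝟙 _ := congrArg (fun t => t.left) φ.hom_inv_id
  have hl : (pullback.snd px jx ≫ f) ≫ G.hom = (pullback.fst px jx ≫ x') ≫ sp R R' := by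
    rw [Category.assoc, hf, ← Category.assoc]
    exact hw
  let l : pullback px jx ⟶ pullback G.hom (sp R R') :=
    pullback.lift (pullback.snd px jx ≫ f) (pullback.fst px jx ≫ x') hl
  obtain ⟨g', hg', hfg'⟩ := NeronExt.exists_ext hN hsq (l ≫ φ.hom.left) (by
    rw [Category.assoc, hφ, hb2]
    exact pullback.lift_snd _ _ _)
  obtain ⟨h, h1, h2, -⟩ := GenExt.exists_ext hX' hXE (y := G.hom) (f := f)
    (g := g' ≫ φ.inv.left ≫ pullback.fst G.hom (sp R R')) (by
      rw [Category.assoc, Category.assoc, pullback.condition, reassoc_of% hφ', reassoc_of% hg']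
      exact hX'.w.symm) (by
      rw [reassoc_of% hfg', reassoc_of% hφφ]
      exact pullback.lift_fst _ _ _)
  exact ⟨h, h1, h2⟩

end Desc

end Groth.Agent.Sga7.H755.FN.NeronDesc
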